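import Mathlib

/-! Integral ring maps with nil kernel for which two extensions of a map to a field agree. -/

namespace Groth.Agent.RadicialLib

open scoped TensorProduct

universe u

/-- Any two maps of `S` to a field that agree on `R` are equal. -/
def FieldEpi (R S : Type u) [CommRing R] [CommRing S] [Algebra R S] : Prop :=
  ∀ (K : Type u) [Field K] (f g : S →+* K), f.comp (algebraMap R S) = g.comp (algebraMap R S) → f = g

variable {R S : Type u} [CommRing R] [CommRing S] [Algebra R S]

theorem fieldEpi_of_adjoin (G : Set S) (hG : Algebra.adjoin R G = ⊤)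
    (h : ∀ x ∈ G, ∀ (K : Type u) [Field K] (f g : S →+* K), f.comp (algebraMap R S) = g.comp (algebraMap R S) → f x = g x) :
    FieldEpi R S := fun K _ f g hfg => RingHom.ext fun s => by
  have hs : s ∈ Algebra.adjoin R G := hG ▸ trivial
  induction hs using Algebra.adjoin_induction with
  | mem x hx => exact h x hx K f g hfg
  | algebraMap r => exact RingHom.congr_fun hfg r
  | add x y _ _ hx hy => rw [map_add, map_add, hx, hy]
  | mul x y _ _ hx hy => rw [map_mul, map_mul, hx, hy]

theorem comap_injective (h : FieldEpi R S) :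
    Function.Injective (PrimeSpectrum.comap (algebraMap R S)) := by
  intro q₁ q₂ hq
  let P := (PrimeSpectrum.comap (algebraMap R S) q₁).asIdeal
  let φ₁ := Ideal.ResidueField.map P q₁.asIdeal (algebraMap R S) rfl
  let φ₂ := Ideal.ResidueField.map P q₂.asIdeal (algebraMap R S) (congrArg PrimeSpectrum.asIdeal hq)
  letI : Algebra P.ResidueField q₁.asIdeal.ResidueField := φ₁.toAlgebra
  letI : Algebra P.ResidueField q₂.asIdeal.ResidueField := φ₂.toAlgebra
  haveI : Nontrivial (q₁.asIdeal.ResidueField ⊗[P.ResidueField] q₂.asIdeal.ResidueField) :=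
    Algebra.TensorProduct.nontrivial_of_algebraMap_injective_of_flat_left _ _ _ φ₂.injective
  obtain ⟨M, hM⟩ := Ideal.exists_maximal (q₁.asIdeal.ResidueField ⊗[P.ResidueField] q₂.asIdeal.ResidueField)
  letI : Field (_ ⧸ M) := Ideal.Quotient.field M
  let i₁ : q₁.asIdeal.ResidueField →+* _ ⧸ M := (Ideal.Quotient.mk M).comp Algebra.TensorProduct.includeLeftRingHom
  let i₂ : q₂.asIdeal.ResidueField →+* _ ⧸ M := (Ideal.Quotient.mk M).comp Algebra.TensorProduct.includeRight.toRingHom
  have h12 : i₁.comp φ₁ = i₂.comp φ₂ := RingHom.ext fun x => congrArg (Ideal.Quotient.mk M)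
    (Algebra.TensorProduct.tmul_one_eq_one_tmul x)
  have heq : i₁.comp (algebraMap S q₁.asIdeal.ResidueField) = i₂.comp (algebraMap S q₂.asIdeal.ResidueField) := by
    refine h _ _ _ (RingHom.ext fun r => ?_)
    have := RingHom.congr_fun h12 (algebraMap R P.ResidueField r)
    simpa [φ₁, φ₂] using this
  have hk := congrArg RingHom.ker heq
  rw [← RingHom.comap_ker i₁, ← RingHom.comap_ker i₂, (RingHom.injective_iff_ker_eq_bot i₁).mp i₁.injective,
    (RingHom.injective_iff_ker_eq_bot i₂).mp i₂.injective, ← RingHom.ker_eq_comap_bot, ← RingHom.ker_eq_comap_bot,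
    Ideal.ker_algebraMap_residueField, Ideal.ker_algebraMap_residueField] at hk
  exact PrimeSpectrum.ext hk

theorem isHomeomorph_comap [Algebra.IsIntegral R S] (h : FieldEpi R S)
    (hker : ∀ r : R, algebraMap R S r = 0 → IsNilpotent r) :
    IsHomeomorph (PrimeSpectrum.comap (algebraMap R S)) := by
  have hint : (algebraMap R S).IsIntegral := fun x => Algebra.IsIntegral.isIntegral x
  rw [isHomeomorph_iff_continuous_isClosedMap_bijective]
  refine ⟨PrimeSpectrum.continuous_comap _, PrimeSpectrum.isClosedMap_comap_of_isIntegral _ hint,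
    comap_injective h, fun p => ?_⟩
  have hle : (⊥ : Ideal S).comap (algebraMap R S) ≤ p.asIdeal := fun r hr => by
    obtain ⟨n, hn⟩ := hker r (by simpa using hr)
    exact p.isPrime.mem_of_pow_mem n (hn ▸ p.asIdeal.zero_mem)
  obtain ⟨q, -, hq, hqp⟩ := Ideal.exists_ideal_over_prime_of_isIntegral p.asIdeal ⊥ hle
  exact ⟨⟨q, hq⟩, PrimeSpectrum.ext hqp⟩

theorem isPurelyInseparable_residueField (h : FieldEpi R S) (p : Ideal R) [p.IsPrime] (q : Ideal S) [q.IsPrime]
    [Algebra p.ResidueField q.ResidueField]
    (hcomm : ∀ r : R, algebraMap p.ResidueField q.ResidueField (algebraMap R p.ResidueField r) =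
      algebraMap S q.ResidueField (algebraMap R S r)) :
    IsPurelyInseparable p.ResidueField q.ResidueField := by
  refine isPurelyInseparable_of_finSepDegree_eq_one ?_
  rw [Field.finSepDegree, Nat.card_eq_one_iff_unique]
  refine ⟨⟨fun f g => ?_⟩, ⟨IsScalarTower.toAlgHom p.ResidueField q.ResidueField (AlgebraicClosure q.ResidueField)⟩⟩
  have hfg := h (AlgebraicClosure q.ResidueField) (f.toRingHom.comp (algebraMap S _)) (g.toRingHom.comp (algebraMap S _))
    (RingHom.ext fun r => by simp [← hcomm])
  have h1 : f.toRingHom.comp (algebraMap (S ⧸ q) q.ResidueField) = g.toRingHom.comp (algebraMap (S ⧸ q) q.ResidueField) :=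
    Ideal.Quotient.ringHom_ext hfg
  exact AlgHom.coe_ringHom_injective (IsLocalization.ringHom_ext (nonZeroDivisors (S ⧸ q)) h1)

end Groth.Agent.RadicialLib
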